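import Groth.Prelude.Def_HRes
import Groth.Agent.DescSecLib.ExtFunctor

/-!
Functoriality of restriction in big-site cohomology.
-/

set_option autoImplicit false
set_option maxHeartbeats 1600000
set_option backward.isDefEq.respectTransparency false
set_option backward.isDefEq.respectTransparency.types false
universe u

open CategoryTheory CategoryTheory.Limits AlgebraicGeometry Opposite CategoryTheory.Abelian

noncomputable section

namespace HResFunLib

variable (K : Precoverage Scheme.{u}) {S T T' : Scheme.{u}}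

/-- The integers. -/
abbrev Zc : AddCommGrpCat.{u + 1} := AddCommGrpCat.of (ULift.{u + 1} ℤ)

/-- The constant presheaf. -/
abbrev cst (S : Scheme.{u}) : (Over S)ᵒᵖ ⥤ AddCommGrpCat.{u + 1} := (Functor.const _).obj Zc

/-- The unit into the constant sheaf. -/
abbrev η (S : Scheme.{u}) : cst S ⟶ sheafify (QuotSh.J K S) (cst S) := toSheafify (QuotSh.J K S) (cst S)

theorem η_pullConst (f : T ⟶ S) (U : (Over T)ᵒᵖ) :
    (η K T).app U ≫ (HRes.pullConst K f Zc).inv.hom.app U = (η K S).app ((Over.map f).op.obj U) :=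
  congrArg (fun k => k.app U)
    ((Over.map f).toSheafify_pullbackSheafificationCompatibility AddCommGrpCat.{u + 1} (QuotSh.J K T) (QuotSh.J K S)
      (cst S))

theorem pullConst_id :
    (HRes.pullConst K (𝟙 S) Zc).inv ≫ (K.toGrothendieck.overMapPullbackId AddCommGrpCat.{u + 1} S).hom.app
      ((constantSheaf (QuotSh.J K S) AddCommGrpCat.{u + 1}).obj Zc) = 𝟙 _ := by
  refine Sheaf.hom_ext (sheafify_hom_ext _ _ _
    ((constantSheaf (QuotSh.J K S) AddCommGrpCat.{u + 1}).obj Zc).property (NatTrans.ext (funext fun U => ?_)))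
  change (η K S).app U ≫ (HRes.pullConst K (𝟙 S) Zc).inv.hom.app U ≫ _ = (η K S).app U ≫ 𝟙 _
  rw [← Category.assoc, η_pullConst, Category.comp_id, GrothendieckTopology.overMapPullbackId_hom_app_hom_app]
  erw [← (η K S).naturality]
  exact Category.id_comp _

theorem pullConst_comp (f : T ⟶ S) (g : T' ⟶ T) :
    (HRes.pullConst K g Zc).inv ≫ (BigSite.pullBig K g AddCommGrpCat.{u + 1}).map (HRes.pullConst K f Zc).inv ≫
      (K.toGrothendieck.overMapPullbackComp AddCommGrpCat.{u + 1} g f).hom.app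
        ((constantSheaf (QuotSh.J K S) AddCommGrpCat.{u + 1}).obj Zc) =
      (HRes.pullConst K (g ≫ f) Zc).inv := by
  refine Sheaf.hom_ext (sheafify_hom_ext _ _ _
    ((BigSite.pullBig K (g ≫ f) AddCommGrpCat.{u + 1}).obj
      ((constantSheaf (QuotSh.J K S) AddCommGrpCat.{u + 1}).obj Zc)).property (NatTrans.ext (funext fun U => ?_)))
  change (η K T').app U ≫ (HRes.pullConst K g Zc).inv.hom.app U ≫
      (HRes.pullConst K f Zc).inv.hom.app ((Over.map g).op.obj U) ≫ _ =
    (η K T').app U ≫ (HRes.pullConst K (g ≫ f) Zc).inv.hom.app U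
  rw [← Category.assoc, η_pullConst, ← Category.assoc, η_pullConst, η_pullConst,
    GrothendieckTopology.overMapPullbackComp_hom_app_hom_app]
  erw [← (η K S).naturality]
  exact Category.id_comp _

universe w v u'

theorem mk₀_triple {C : Type u'} [Category.{v} C] [Abelian C] [HasExt.{w} C] {P Q R W V : C} {n : ℕ}
    (a : P ⟶ Q) (b : Q ⟶ R) (c : R ⟶ W) (d : P ⟶ W) (h : a ≫ b ≫ c = d) (X : Ext.{w} W V n) :
    (Ext.mk₀ d).comp X (zero_add n) =
      (Ext.mk₀ a).comp ((Ext.mk₀ b).comp ((Ext.mk₀ c).comp X (zero_add n)) (zero_add n)) (zero_add n) := by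
  rw [← Ext.comp_assoc_of_second_deg_zero, ← Ext.comp_assoc_of_second_deg_zero, Ext.mk₀_comp_mk₀, Ext.mk₀_comp_mk₀,
    Category.assoc, h]

theorem map_pull_id (F : BigSite.Ab K S) (n : ℕ) (x : BigSite.H K S F n) :
    Sheaf.H.map ((K.toGrothendieck.overMapPullbackId AddCommGrpCat.{u + 1} S).hom.app F) n
      (HRes.pull K (𝟙 S) F n x) = x := by
  rw [Sheaf.H.map_apply, HRes.pull_apply, Ext.comp_assoc_of_third_deg_zero]
  erw [DescSecLib.mapExactFunctor_natTrans (G := 𝟭 _) (K.toGrothendieck.overMapPullbackId AddCommGrpCat.{u + 1} S).hom x,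
    DescSecLib.mapExactFunctor_idFunctor, ← Ext.comp_assoc_of_second_deg_zero, Ext.mk₀_comp_mk₀, pullConst_id,
    Ext.mk₀_id_comp]

theorem pull_comp (f : T ⟶ S) (g : T' ⟶ T) (F : BigSite.Ab K S) (n : ℕ) (x : BigSite.H K S F n) :
    HRes.pull K (g ≫ f) F n x =
      Sheaf.H.map ((K.toGrothendieck.overMapPullbackComp AddCommGrpCat.{u + 1} g f).hom.app F) n
        (HRes.pull K g ((BigSite.pullBig K f AddCommGrpCat.{u + 1}).obj F) n (HRes.pull K f F n x)) := by
  rw [Sheaf.H.map_apply, HRes.pull_apply K g, HRes.pull_apply K f, HRes.pull_apply K (g ≫ f),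
    Ext.mapExactFunctor_comp, Ext.mapExactFunctor_mk₀, ← DescSecLib.mapExactFunctor_compFunctor,
    Ext.comp_assoc_of_third_deg_zero, Ext.comp_assoc_of_third_deg_zero]
  erw [DescSecLib.mapExactFunctor_natTrans (K.toGrothendieck.overMapPullbackComp AddCommGrpCat.{u + 1} g f).hom x]
  exact mk₀_triple _ _ _ _ (pullConst_comp K f g) _

end HResFunLib
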